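import Groth.Agent.CurveCut.Basic

/-!
# A prime maximal in an open subset of the spectrum of a Noetherian local ring
-/

set_option autoImplicit false
universe u

namespace Groth.Agent.QFCut

/-- A nonempty open subset of the spectrum of a Noetherian local ring contains a prime all of whose
proper specialisations are the closed point. -/
theorem exists_max_prime {S : Type u} [CommRing S] [IsLocalRing S] [IsNoetherianRing S]
    {O : Set (PrimeSpectrum S)} (hO : IsOpen O) (hne : O.Nonempty) :
    ∃ Q ∈ O, ∀ Q' : PrimeSpectrum S, Q.asIdeal < Q'.asIdeal → Q' = IsLocalRing.closedPoint S := by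
  obtain ⟨_, ⟨Q, hQ, rfl⟩, hmax⟩ : ∃ I ∈ PrimeSpectrum.asIdeal '' O,
      ∀ J ∈ PrimeSpectrum.asIdeal '' O, ¬ I < J :=
    set_has_maximal_iff_noetherian.2 (inferInstance : IsNoetherian S S) _ (hne.image _)
  refine ⟨Q, hQ, fun Q' hlt => ?_⟩
  obtain ⟨_, ⟨a, rfl⟩, haQ, hsub⟩ :=
    PrimeSpectrum.isTopologicalBasis_basic_opens.exists_subset_of_mem_open hQ hO
  have : Nontrivial (S ⧸ Q.asIdeal) := Ideal.Quotient.nontrivial_iff.2 Q.2.ne_top
  have : IsLocalRing (S ⧸ Q.asIdeal) := .of_surjective' _ Ideal.Quotient.mk_surjective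
  let π := Ideal.Quotient.mk Q.asIdeal
  have ha0 : π a ≠ 0 := fun h => haQ (Ideal.Quotient.eq_zero_iff_mem.1 h)
  have hmem : ∀ P : Ideal (S ⧸ Q.asIdeal), P.IsPrime → P ≠ ⊥ → π a ∈ P := fun P hP hP0 => by
    have h : Q.asIdeal < P.comap π := by
      refine lt_of_le_of_ne (fun x hx => ?_) fun h => hP0 ?_
      · show π x ∈ P
        rw [Ideal.Quotient.eq_zero_iff_mem.2 hx]
        exact P.zero_mem
      · rw [← Ideal.map_comap_of_surjective _ Ideal.Quotient.mk_surjective P, ← h]
        exact Ideal.map_quotient_self Q.asIdeal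
    by_contra hh
    exact hmax (P.comap π)
      ⟨⟨P.comap π, hP.comap π⟩, hsub (show a ∉ P.comap π from hh), rfl⟩ h
  have hker : RingHom.ker π ≤ Q'.asIdeal := by rw [Ideal.mk_ker]; exact hlt.le
  have hP : (Q'.asIdeal.map π).IsPrime :=
    Ideal.map_isPrime_of_surjective Ideal.Quotient.mk_surjective hker
  have hback : (Q'.asIdeal.map π).comap π = Q'.asIdeal := by
    rw [Ideal.comap_map_of_surjective' _ Ideal.Quotient.mk_surjective, sup_eq_left]
    exact hker
  have heq := CurveCut.eq_maximalIdeal_of_forall_mem ha0 hmem _ hP fun h => hlt.ne (by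
    rw [← hback, h]
    exact (RingHom.ker_eq_comap_bot _).symm.trans Ideal.mk_ker |>.symm)
  refine PrimeSpectrum.ext ?_
  rw [← hback, heq]
  exact IsLocalRing.eq_maximalIdeal (Ideal.comap_isMaximal_of_surjective _ Ideal.Quotient.mk_surjective)

end Groth.Agent.QFCut
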